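set_option autoImplicit false
namespace Cfsg.Agent.Lib.Helper6.TCD.HeC
noncomputable def NC (i : Nat) : Nat := Nat.land (Nat.shiftRight 0x2d000010006d50000b400008000b40003b20002d0002d000040001644000b4000a0000100004560002800028000040000f54000a000000000b40003b30002800027000040001b580009c0009c00010000655000270003d0000b00051440006c0006800004001b540001a000020001a00007c8000680006000004001b5400018000020001800006c8000600004c00004001b5400013000020001300003c80004c000180004800023600012000050001200008d400048000040004c0000f300012000000001200008c00004800004000680001f300011000060001000002d80004000004000600001b300010000020001100002d80003800008000400000b50000e00003000450002dcc0003800008000480002310000e000000001100002d80003400000000400000b50000d0000d000040000b4c0003400000000380003720000d000010000e0000d840003400000000680001f30000c000060000b00001d80002c00000000600001b30000b000060000900000d800024000140002400003500009000000001300003cc00024000040002400003100009000010000c00001d800020000040002c000075000080000800004000154c0002000008000200000b200008000010003d00027c0000200000c000f00006b300007000060000600000d8000180000c000e80006330000600004000010006d5000010000080001000003200004000060000300001d80000c000140000c00007500003000030003800013cc0000c000040000c00007100003000060003200011d80000800014000c000043500002000010000400000cc00008000380002c0014120000200000000270000dc00000800018000980003360000100005000240000bd400004000000001000003300001000000000300001c800004000000006c00037100001000060001a00007d80000000014000600001b50000000000000010006d50000000000c0005c00013300000000030000b00050480000000004000a00000b100000000010000800002c000000000000000000000000000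 (Nat.mul 86 (Nat.land i 511))) 77371252455336267181195263
end Cfsg.Agent.Lib.Helper6.TCD.HeC
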