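set_option autoImplicit false
namespace Cfsg.Agent.Lib.Helper6.TCD.HeC
noncomputable def NH (i : Nat) : Nat := Nat.land (Nat.shiftRight 0xa6800168001500000200028c0005a00050c000a0000a00001400014f000280002700004e0004d00009c00095800138001180001a0002380001800040c0006000083800058000ea000130001dc000000003ec0007c0007d0000f0000ed000120001ee0003600046c000440008800008800106000100002440001c00043c00038000a7000070000f80001c0002420001a000438000340005300006800152000020002a60001a0004680003000086800060001050000b0001ec0000e0003d40001800076000048000f4000020002400001000043000020000350000400012f0000e0002580001a0004640001c0008580003800104000060000a4000080001580000c00079800060000f20000b0001d6000060003c4000200008f8000100010a000020000aa0000400054400034000aa8000000011e000010002120000200015000004000780000000012d0000200023a00000000420000000000500000000053000000001de0000200055000000000970000000015600000 (Nat.mul 43 (Nat.land i 1023))) 8796093022207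
end Cfsg.Agent.Lib.Helper6.TCD.HeC
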