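set_option autoImplicit false
namespace Cfsg.Agent.Lib.Helper6.TCD.HeC
noncomputable def SC (i : Nat) : Nat := Nat.land (Nat.shiftRight 0x40009402000000000005c02000000000000000000000000000000000000000000001000000000000000000000000000000000000000000000000000000000001000000000000001000000000000000000000000000000000000000000000000000000000001000000000000000000000000000000000000000000000000000000000000000000040000000000150080002c02000000040000000000000000000000000000000000000000110080000000000000040000000000000000000000000000000003c0200000000000000000018008000580200047008000000100007008000b8020000000000000010002500800000000000000000000000002400800000000000000000000000000000400000000000000000000000002c008000000100025008000000000000000000000000000000000880200000000000000000000004000000000000000000000000000000000000100025008000000000000000000000000000000000000000000000000000000000004000000000000000000000100000000000b4020000000000000000001b00800000000000000000000010002b00800000000000000000064020000000000000000000000000000000000000400000000001500800000000000000000000000000e008000000000000000000000000000004000a80200000000000000000000004000000000015008000000000000004000cc020002d0080000000000000000006c020000000000000000002800800000000000000400000000001500800000000000000400000000002d008000000000023008000000000000000000000000000004000ac020000000000084020000000000000000000000000000000000000000000010000000000000000000001000000000000000000060020000000000050020000000400000000000000400000000002d008000000000000000000000000011008000000000000004000ac02000000000000000000000000003c0200000000000000000000000000000100000000000000000000000000000000000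00000080020000000000000010001300800024020000000000000000001800800058020000a008000000100000010000a802000000000000000000000040000000000000000002c0200000004000cc020002d0080000000000000000000000000110080000000000280080000000000000040000000000000000002c020000000400000000002d008000000000023008000000000011008000000000000004000ac02000000000008402000000000003c020000000000000000000000000000010000000000000000000b00800000000000000000060020000000000000000000000400000000000000400000000002d0080000000000000000006c0200000000000000000000004000ac020000000000000000001900800000000000000000000000000000000000010000000000000000000000000000000000000000080020000000000000010002c00c00000000000000000000000000e008000300200000000000000000000004000a80200000000000000000000004000000000000010000000400000004000cc020002d00800000000000000000000040000001000000000002800800000000000000400000000000001000000040000000000000000000000400094020000000000000000000000000000000000000000000000000000000000010000000000000000000000400000000002d008000000000023008000000400000010000000000000004000ac020000000000084020000001000000040000000000000000000000000000010000000000000040000001000000000000000000060020000000000000040000000400000000000000400000040002d0080000000000000100006c0200000010000000000000004000ac020000000000000040001900800000040000000000000000000000000000010000000000054020000000000000000000000000080020000000000000010000000000000040000000000000000000e008000000000000000000000000000004000000100000010000b4020000000000000040000001000044020000000000000010002b00800000000000001000000040000f0080000000000000000000000000000040000000000000000002c020000000000000000002000800000000000000400000000000900800000000000000000060020000000000000000000000400000000000000400000040002d008000000000000010000000400000010000000000000004000ac020000000000000040000001000000040000000000000000000000400000000000000000000000000000000000000000000000000000000000400000000000001000000040000000000000000002000800000000000000400000000000001000000000000000000060020000000000000000000000400000000000000000000000000e0080000000000000000000000000000040000000000000000000000000000000000000000000000000000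 (Nat.mul 30 (Nat.land i 1023))) 1073741823
end Cfsg.Agent.Lib.Helper6.TCD.HeC
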