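set_option autoImplicit false
namespace Cfsg.Agent.Lib.Helper6.TCD.HeC
noncomputable def WDL0 (i : Nat) : Nat := Nat.land (Nat.shiftRight 0x505004000000000000000004040400000000000000004040040000000000000000030304000000000000000030300400000000000000000202040000000000000000202004000000000000010101010800000000000010101010080000000000000000006602000000000000000000550200000000000000000044020000000000000000003302000000000000000000220200000000000000000011020000000000000000000002 (Nat.mul 88 (Nat.land i 15))) 309485009821345068724781055
noncomputable def WDL1 (i : Nat) : Nat := Nat.land (Nat.shiftRight 0x424204232323232323232323231432323232323232323232140000000000000000161604000000000000000061610400000000000000001515040000000000000000515104000000000000000014140400000000000000004141040000000000000000131304000000000000000031310400000000000000121212060000000000000021212106000000000000000006060400000000000000006060040000000000000000050504 (Nat.mul 88 (Nat.land i 15))) 309485009821345068724781055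
noncomputable def WDP0N0 (i : Nat) : Nat := Bool.rec (WDL0 i) (WDL1 i) (Nat.ble 16 i)
noncomputable def WDL2 (i : Nat) : Nat := Nat.land (Nat.shiftRight 0x6565656508000000000000000046460400000000000000006464040000000000000000454504000000000000000054540400000000000000363636060000000000000063636306000000000000003535350600000000000000535353060000000000000034343406000000000000004343430600000000000000002626040000000000000000626204000000000000000025250400000000000000005252040000000000000000242404 (Nat.mul 88 (Nat.land i 15))) 309485009821345068724781055
noncomputable def WDL3 (i : Nat) : Nat := Nat.land (Nat.shiftRight 0x1240120120a000000000012401201200a000000000024012012010a000000000040120120120a000000000001201201240a00000000000000065654050000000000000005654605000000000000000654650500000000000000054656050000000000000004656505000000000000000656450500000000000000056456050000000000000006456505000000000000000456560500000000000000056564050000000000005656565608 (Nat.mul 88 (Nat.land i 15))) 309485009821345068724781055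
noncomputable def WDP0N1 (i : Nat) : Nat := Bool.rec (WDL2 i) (WDL3 i) (Nat.ble 48 i)
noncomputable def WDP0N2 (i : Nat) : Nat := Bool.rec (WDP0N0 i) (WDP0N1 i) (Nat.ble 32 i)
noncomputable def WDL4 (i : Nat) : Nat := Nat.land (Nat.shiftRight 0x232323232300b000000000021021021040a000000000010210210420a000000000002102104210a000000000021021042100a000000000010210421020a000000000002104210210a000000000021042102100a000000000010421021020a000000000004210210210a000000000042102102100a000000000012012012400a000000000020120124010a000000000001201240120a000000000012012401200a000000000020124012010a (Nat.mul 88 (Nat.land i 15))) 309485009821345068724781055
noncomputable def WDL5 (i : Nat) : Nat := Nat.land (Nat.shiftRight 0x232320323230b000000000323203232320b000000000232032323230b000000000320323232320b000000000203232323230b000000000032323232320b000000000323232323020b000000000232323230230b000000000323232302320b000000000232323023230b000000000323230232320b000000000232302323230b000000000323023232320b000000000230232323230b000000000302323232320b000000000023232323230b (Nat.mul 88 (Nat.land i 15))) 309485009821345068724781055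
noncomputable def WDP0N3 (i : Nat) : Nat := Bool.rec (WDL4 i) (WDL5 i) (Nat.ble 80 i)
noncomputable def WDL6 (i : Nat) : Nat := Nat.land (Nat.shiftRight 0x40100003562356235623562100000562356235623562310000062356235623562351000002356235623562356100000532653265326532610000032653265326532651000002653265326532653100000653265326532653210000000000323232323200b000000000232323232030b000000000323232320320b000000000232323203230b000000000323232032320b (Nat.mul 88 (Nat.land i 15))) 309485009821345068724781055
noncomputable def WDP0N4 (i : Nat) : Nat := Bool.rec (WDP0N3 i) (WDL6 i) (Nat.ble 96 i)
noncomputable def WD (i : Nat) : Nat := Bool.rec (WDP0N2 i) (WDP0N4 i) (Nat.ble 64 i)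
end Cfsg.Agent.Lib.Helper6.TCD.HeC
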