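import Cfsg.Agent.Lib.Helper6.TCD.HeC.SH
import Cfsg.Agent.Lib.Helper6.TCD.HeC.SC
import Cfsg.Agent.Lib.Helper6.TCD.HeC.NH
import Cfsg.Agent.Lib.Helper6.TCD.HeC.NC
import Cfsg.Agent.Lib.Helper6.TCD.HeC.WD
import Cfsg.Agent.Lib.Helper6.TCD.HeC.WI
set_option autoImplicit false
namespace Cfsg.Agent.Lib.Helper6.TCD.HeC
def n : Nat := 70
def ncol : Nat := 7
def nrw : Nat := 110
def nw : Nat := 110
def tmax : Nat := 342
def INV : Nat := 106181136
def N : Nat := 1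
end Cfsg.Agent.Lib.Helper6.TCD.HeC
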